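import Cfsg.Agent.Comp.Pres
import Cfsg.Agent.JR.J1D

set_option autoImplicit false
set_option maxRecDepth 1000000
set_option maxHeartbeats 0
set_option Elab.async false

namespace CF.JR.P
open CF.Comp

theorem e1_all : Cov e1_F 84 6 0 := by
  have h := Cov.zero e1_F 84
  have h := h.blk (b := 84) e1_k0_0 rfl
  have h := h.next (y := 1) rfl rfl
  have h := h.blk (b := 84) e1_k1_0 rfl
  have h := h.next (y := 2) rfl rfl
  have h := h.blk (b := 84) e1_k2_0 rfl
  have h := h.next (y := 3) rfl rfl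
  have h := h.blk (b := 84) e1_k3_0 rfl
  have h := h.next (y := 4) rfl rfl
  have h := h.blk (b := 84) e1_k4_0 rfl
  have h := h.next (y := 5) rfl rfl
  have h := h.blk (b := 84) e1_k5_0 rfl
  have h := h.next (y := 6) rfl rfl
  exact h

theorem e1 : Enum r1 [[5], [7], [9]] (gensW 5) 1463 :=
  ⟨e1_cols, e1_ch, e1_L, e1_H, e1_pb.1, e1_e.get, [(nat_lit 0), (nat_lit 1), (nat_lit 3), (nat_lit 5), (nat_lit 7), (nat_lit 9)], (nat_lit 31), (nat_lit 5), e1_rots, e1_hcs,
    (nat_lit 1464), (nat_lit 6), (nat_lit 8192), (nat_lit 128), (nat_lit 1048576), (nat_lit 524287), (nat_lit 8), (nat_lit 255), (nat_lit 27), (nat_lit 134217727), (nat_lit 21), (nat_lit 84),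
    fun _ _ => rfl, fun _ => rfl, fun _ _ => rfl, by decide +kernel, e1_all.1⟩

theorem e2_all : Cov e2_F 4 4 0 := by
  have h := Cov.zero e2_F 4
  have h := h.blk (b := 4) e2_k0_0 rfl
  have h := h.next (y := 1) rfl rfl
  have h := h.blk (b := 4) e2_k1_0 rfl
  have h := h.next (y := 2) rfl rfl
  have h := h.blk (b := 4) e2_k2_0 rfl
  have h := h.next (y := 3) rfl rfl
  have h := h.blk (b := 4) e2_k3_0 rfl
  have h := h.next (y := 4) rfl rfl
  exact h

theorem e2 : Enum r1 [[7], [9]] [[5], [7], [9]] 12 :=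
  ⟨e2_cols, e2_ch, e2_L, e2_H, e2_pb.1, e2_e.get, [(nat_lit 0), (nat_lit 5), (nat_lit 7), (nat_lit 9)], (nat_lit 31), (nat_lit 5), e2_rots, e2_hcs,
    (nat_lit 13), (nat_lit 4), (nat_lit 16), (nat_lit 16), (nat_lit 256), (nat_lit 1023), (nat_lit 8), (nat_lit 255), (nat_lit 11), (nat_lit 2047), (nat_lit 1), (nat_lit 4),
    fun _ _ => rfl, fun _ => rfl, fun _ _ => rfl, by decide +kernel, e2_all.1⟩

theorem e3_all : Cov e3_F 4 3 0 := by
  have h := Cov.zero e3_F 4
  have h := h.blk (b := 4) e3_k0_0 rfl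
  have h := h.next (y := 1) rfl rfl
  have h := h.blk (b := 4) e3_k1_0 rfl
  have h := h.next (y := 2) rfl rfl
  have h := h.blk (b := 4) e3_k2_0 rfl
  have h := h.next (y := 3) rfl rfl
  exact h

theorem e3 : Enum r1 [[9]] [[7], [9]] 5 :=
  ⟨e3_cols, e3_ch, e3_L, e3_H, e3_pb.1, e3_e.get, [(nat_lit 0), (nat_lit 7), (nat_lit 9)], (nat_lit 31), (nat_lit 5), e3_rots, e3_hcs,
    (nat_lit 6), (nat_lit 3), (nat_lit 8), (nat_lit 8), (nat_lit 64), (nat_lit 511), (nat_lit 8), (nat_lit 255), (nat_lit 8), (nat_lit 255), (nat_lit 1), (nat_lit 4),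
    fun _ _ => rfl, fun _ => rfl, fun _ _ => rfl, by decide +kernel, e3_all.1⟩

theorem e4_all : Cov e4_F 32 6 0 := by
  have h := Cov.zero e4_F 32
  have h := h.blk (b := 32) e4_k0_0 rfl
  have h := h.next (y := 1) rfl rfl
  have h := h.blk (b := 32) e4_k1_0 rfl
  have h := h.next (y := 2) rfl rfl
  have h := h.blk (b := 32) e4_k2_0 rfl
  have h := h.next (y := 3) rfl rfl
  have h := h.blk (b := 32) e4_k3_0 rfl
  have h := h.next (y := 4) rfl rfl
  have h := h.blk (b := 32) e4_k4_0 rfl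
  have h := h.next (y := 5) rfl rfl
  have h := h.blk (b := 32) e4_k5_0 rfl
  have h := h.next (y := 6) rfl rfl
  exact h

theorem e4 : Enum r2 [[1], [5], [7], [9]] (gensW 5) 1 :=
  ⟨e4_cols, e4_ch, e4_L, e4_H, e4_pb.1, e4_e.get, [(nat_lit 0), (nat_lit 1), (nat_lit 3), (nat_lit 5), (nat_lit 7), (nat_lit 9)], (nat_lit 31), (nat_lit 5), e4_rots, e4_hcs,
    (nat_lit 2), (nat_lit 6), (nat_lit 2048), (nat_lit 64), (nat_lit 131072), (nat_lit 131071), (nat_lit 8), (nat_lit 255), (nat_lit 24), (nat_lit 16777215), (nat_lit 8), (nat_lit 32),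
    fun _ _ => rfl, fun _ => rfl, fun _ _ => rfl, by decide +kernel, e4_all.1⟩


end CF.JR.P
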